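import Cfsg.Agent.Lib.GeoTypesSU.Tensor

/-!
The geometric types of subgroups of `SU_n(q)` for `6 ≤ n`, in the shape of the per-degree statements.
-/

set_option autoImplicit false

open Cfsg Cfsg.Agent.Lib

namespace Cfsg.Agent.Lib.GeoTypesSU

variable {F : Type*} [Field F] [Fintype F] {n q : ℕ}

theorem isMaximalIn_decomp (hF : Fintype.card F = q ^ 2) (hn : 6 ≤ n) {t k : ℕ} (hk : 2 ≤ k) (hex : k = 2 → 3 ≤ q)
    {D : Fin t → Submodule F (Fin n → F)} (hD : Cfsg.Geo.IsNondegenerateMDecomposition (Cfsg.hermForm n F q) k D) :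
    Cfsg.Geo.IsMaximalIn (Cfsg.GU n F q ⊓ Cfsg.Geo.specialLinear (Fin n) F)
      (Cfsg.Geo.decompositionStabilizer D ⊓ (Cfsg.GU n F q ⊓ Cfsg.Geo.specialLinear (Fin n) F)) :=
  UnitaryMax.isMaximalIn_decomp hF hn hD hk fun h => by have := hex h.1; omega

theorem isMaximalIn_subfieldOdd (hF : Fintype.card F = q ^ 2) (hn : 6 ≤ n) (F₀ : Subfield F) (r : ℕ)
    (hr : r.Prime) (hro : Odd r) (hcard : Fintype.card F = Nat.card F₀ ^ r) (P : Matrix.GeneralLinearGroup (Fin n) F)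
    (hP : Cfsg.Geo.IsFormRationalStructure (Cfsg.hermForm n F q) F₀ 1 P) :
    Cfsg.Geo.IsMaximalIn (Cfsg.GU n F q ⊓ Cfsg.Geo.specialLinear (Fin n) F)
      (Cfsg.Geo.subfieldSubgroup F₀ P ⊓ (Cfsg.GU n F q ⊓ Cfsg.Geo.specialLinear (Fin n) F)) := by
  refine SUSubfield.isMaximalIn_subfield hF hn F₀ r hr hro (by rw [Nat.card_eq_fintype_card]; exact hcard) P
    fun u v => ?_
  simpa [SubfieldMax.ratVec] using hP (fun i => (u i : F)) (fun i => (v i : F)) (fun i => (u i).2) (fun i => (v i).2)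

theorem isMaximalIn_subfieldSymp (hF : Fintype.card F = q ^ 2) (hn : 6 ≤ n) (heven : Even n) (F₀ : Subfield F)
    (P : Matrix.GeneralLinearGroup (Fin n) F) (ζ : F) (hcard : Fintype.card F = Nat.card F₀ ^ 2) (hζ0 : ζ ≠ 0)
    (hζ : ζ + ζ ^ q = 0) (hP : Cfsg.Geo.IsFormRationalStructure (Cfsg.hermForm n F q) F₀ ζ P)
    (halt : ∀ u : Fin n → F, (∀ i, u i ∈ F₀) → Cfsg.hermForm n F q
      (Matrix.mulVec (P : Matrix (Fin n) (Fin n) F) u) (Matrix.mulVec (P : Matrix (Fin n) (Fin n) F) u) = 0) :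
    Cfsg.Geo.IsMaximalIn (Cfsg.GU n F q ⊓ Cfsg.Geo.specialLinear (Fin n) F)
      (Cfsg.Geo.subfieldSubgroup F₀ P ⊓ (Cfsg.GU n F q ⊓ Cfsg.Geo.specialLinear (Fin n) F)) := by
  have hS : SubfieldMax.IsSympStructure n q F F₀ ζ P :=
    { card := hF
      cardK := Nat.pow_left_injective two_ne_zero (hcard.symm.trans hF)
      ne := hζ0
      skew := hζ
      rat := fun u v => hP _ _ (fun i => (u i).2) (fun i => (v i).2)
      alt := fun u => halt _ (fun i => (u i).2) }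
  exact hS.isMaximalIn (by omega)

theorem isMaximalIn_subfieldOrth (hF : Fintype.card F = q ^ 2) (hn : 6 ≤ n) (hodd : Odd q) (F₀ : Subfield F)
    (P : Matrix.GeneralLinearGroup (Fin n) F) (hcard : Fintype.card F = Nat.card F₀ ^ 2)
    (hP : Cfsg.Geo.IsFormRationalStructure (Cfsg.hermForm n F q) F₀ 1 P) :
    Cfsg.Geo.IsMaximalIn (Cfsg.GU n F q ⊓ Cfsg.Geo.specialLinear (Fin n) F)
      (Cfsg.Geo.subfieldSubgroup F₀ P ⊓ (Cfsg.GU n F q ⊓ Cfsg.Geo.specialLinear (Fin n) F)) := by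
  have hK : Nat.card F₀ = q := Nat.pow_left_injective (n := 2) (by omega) (hcard.symm.trans hF)
  have h2 : (2 : F) ≠ 0 := Ring.two_ne_zero fun h => by
    have h' := FiniteField.even_card_of_char_two h
    obtain ⟨k, hk⟩ := hodd.pow (n := 2)
    rw [← hF] at hk
    omega
  refine SubfieldMax.UnitaryOrth.isMaximalIn_orthSubfield hF hK P (fun u v => ?_) h2 hn
  have := hP _ _ (fun i => (u i).2) (fun i => (v i).2)
  rwa [one_mul] at this

end Cfsg.Agent.Lib.GeoTypesSU
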