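import Cfsg.Agent.Lib.TensorForm.UnitaryMain
import Cfsg.Agent.Lib.SUExt.Standard
import Cfsg.Agent.Lib.UnitaryMax.Frame
import Cfsg.Agent.Lib.UnitaryMax.Pair
import Cfsg.Agent.Lib.UnitaryMax.Decomp
import Cfsg.Agent.Lib.SUSubfield.Standard
import Cfsg.Agent.Lib.SubfieldMax.UnitaryOrth
import Cfsg.Agent.Lib.SubfieldMax.UnitarySubfield

/-!
Geometric types of maximal subgroups of `SU_n(q)` for `10 ≤ n`, in the shape of the per-degree statements.
-/

set_option autoImplicit false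

open Cfsg
open Matrix Cfsg.Agent.Lib Cfsg.Agent.Lib.TensorMax Cfsg.Agent.Lib.TensorForm Cfsg.Agent.Lib.Forms

namespace Cfsg.Agent.Lib.GeoTypesSU

/-- The stabiliser of a unitary tensor decomposition is maximal in the special unitary group. -/
theorem isMaximalIn_tensor {F : Type*} [Field F] [Fintype F] (n q : ℕ) (hF : Fintype.card F = q ^ 2) (hn : 4 ≤ n) (n₁ n₂ : ℕ) (h1 : 2 ≤ n₁) (h12 : n₁ < n₂) (hb : 4 ≤ n₂) (hex : ¬ (n₁ = 2 ∧ q = 2)) (e : Fin n ≃ Fin n₁ × Fin n₂) (P : Matrix.GeneralLinearGroup (Fin n) F) (f₁ : (Fin n₁ → F) → (Fin n₁ → F) → F) (f₂ : (Fin n₂ → F) → (Fin n₂ → F) → F) (hf₁ : Cfsg.Geo.IsUnitaryFormPow q f₁) (hf₂ : Cfsg.Geo.IsUnitaryFormPow q f₂) (hT : Cfsg.Geo.IsTensorFormStructure (fun x : F => x ^ q) (Cfsg.hermForm n F q) f₁ f₂ e P) : Cfsg.Geo.IsMaximalIn (Cfsg.GU n F q ⊓ Cfsg.Geo.specialLinear (Fin n) F) (Cfsg.Geo.tensorProductSubgroup n₁ n₂ e P ⊓ (Cfsg.GU n F q ⊓ Cfsg.Geo.specialLinear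 (Fin n) F)) := by
  classical
  have hσ : ∀ x : F, qPowHom hF x = x ^ q := qPowHom_apply hF
  have mk : ∀ {m : ℕ} {f : (Fin m → F) → (Fin m → F) → F}, Cfsg.Geo.IsUnitaryFormPow q f →
      IsSForm (qPowHom hF) 1 f := fun {m f} hf =>
    ⟨hf.add_left, hf.smul_left, fun v w => by rw [one_mul, hσ]; exact hf.herm w v,
      fun v hv => (hf.nondegenerate v hv).2, qPowHom_qPowHom hF, by rw [map_one, mul_one]⟩
  have g₁ := mk hf₁
  have g₂ := mk hf₂
  obtain ⟨c, hc0, hc⟩ := hT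
  let L : Matrix (Fin n₁) (Fin n₂) F →ₗ[F] (Fin n → F) :=
    (Matrix.mulVecLin (P : Matrix (Fin n) (Fin n) F)) ∘ₗ
      { toFun := fun X => fun i => X (e i).1 (e i).2
        map_add' := fun X Y => rfl
        map_smul' := fun r X => rfl }
  have hLeq : ∀ X, L X = (P : Matrix (Fin n) (Fin n) F) *ᵥ ((fun p => X p.1 p.2) ∘ e) := fun X => rfl
  have hB : ∀ X Y, Cfsg.hermForm n F q (L X) (L Y) = c * tB f₁ f₂ X Y := fun X Y => by
    rw [hLeq, hLeq, hc, ← tB_gram g₁ g₂]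
    congr 2
    funext x
    exact (hσ x).symm
  have hbij : Function.Bijective L := by
    have hinv : Function.Injective ((P : Matrix (Fin n) (Fin n) F) *ᵥ ·) := fun u v huv => by
      have := congrArg (fun w => ((P⁻¹ : GL (Fin n) F) : Matrix (Fin n) (Fin n) F) *ᵥ w) huv
      simpa [Matrix.mulVec_mulVec, ← Units.val_mul] using this
    refine ⟨fun X Y h => ?_, fun v => ?_⟩
    · funext i j
      have h' : (fun p : Fin n₁ × Fin n₂ => X p.1 p.2) ∘ e = (fun p => Y p.1 p.2) ∘ e := hinv h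
      simpa using congrFun h' (e.symm (i, j))
    · refine ⟨Matrix.of fun i j => (((P⁻¹ : GL (Fin n) F) : Matrix (Fin n) (Fin n) F) *ᵥ v) (e.symm (i, j)), ?_⟩
      rw [hLeq]
      simp only [Matrix.of_apply]
      have : ((fun p : Fin n₁ × Fin n₂ =>
          (((P⁻¹ : GL (Fin n) F) : Matrix (Fin n) (Fin n) F) *ᵥ v) (e.symm (p.1, p.2))) ∘ e)
          = ((P⁻¹ : GL (Fin n) F) : Matrix (Fin n) (Fin n) F) *ᵥ v := funext fun i => by simp
      rw [this, Matrix.mulVec_mulVec, ← Units.val_mul, mul_inv_cancel, Units.val_one, Matrix.one_mulVec]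
  obtain ⟨p₁, p₂, hp⟩ : ∃ X Y, tB f₁ f₂ X Y ≠ 0 := by
    have h0 : (Pi.single ⟨0, by omega⟩ 1 : Fin n₁ → F) ≠ 0 := by simp
    have h0' : (Pi.single ⟨0, by omega⟩ 1 : Fin n₂ → F) ≠ 0 := by simp
    obtain ⟨y, hy⟩ := g₁.nondeg _ h0
    obtain ⟨d, hd⟩ := g₂.nondeg _ h0'
    exact ⟨Matrix.vecMulVec _ _, Matrix.vecMulVec y d, by rw [tB_pure_pure g₁ g₂]; exact mul_ne_zero hd hy⟩
  have hcq : qPowHom hF c = c := by
    have h := herm_conj hF (L p₁) (L p₂)
    rw [hB, hB, ← hσ, map_mul, tB_herm g₁ g₂ p₁ p₂, one_mul, one_mul] at h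
    exact mul_right_cancel₀ (fun e0 => hp (by
      rw [← qPowHom_qPowHom hF (tB f₁ f₂ p₁ p₂), e0, map_zero])) h
  let f₁' : (Fin n₁ → F) → (Fin n₁ → F) → F := fun v w => c * f₁ v w
  have g₁' : IsSForm (qPowHom hF) 1 f₁' :=
    ⟨fun x y v => by simp only [f₁', g₁.add_left, mul_add],
      fun r x v => by simp only [f₁', g₁.smul_left]; ring,
      fun v w => by simp only [f₁', map_mul, hcq, g₁.symm v w, one_mul],
      fun v hv => (g₁.nondeg v hv).imp fun w hw => mul_ne_zero hc0 hw,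
      qPowHom_qPowHom hF, by rw [map_one, mul_one]⟩
  have hB' : ∀ X Y, Cfsg.hermForm n F q (L X) (L Y) = tB f₁' f₂ X Y := fun X Y => by
    rw [hB, tB, tB, Finset.mul_sum]
  let Φ : GL (Fin n₁ × Fin n₂) F ≃* GL (Fin n) F :=
    (Cfsg.Geo.glReindex e.symm).trans (MulAut.conj P)
  have hΦ : ∀ g, (Φ g : Matrix (Fin n) (Fin n) F) = (P : Matrix (Fin n) (Fin n) F) *
      (g : Matrix (Fin n₁ × Fin n₂) (Fin n₁ × Fin n₂) F).submatrix e e *
      ((P⁻¹ : GL (Fin n) F) : Matrix (Fin n) (Fin n) F) := fun g => rfl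
  have hdet : ∀ g, (Φ g : Matrix (Fin n) (Fin n) F).det =
      (g : Matrix (Fin n₁ × Fin n₂) (Fin n₁ × Fin n₂) F).det := fun g => by
    rw [hΦ, Matrix.det_mul, Matrix.det_mul, Matrix.det_submatrix_equiv_self, mul_right_comm,
      ← Matrix.det_mul, ← Units.val_mul, mul_inv_cancel, Units.val_one, Matrix.det_one, one_mul]
  have hL : ∀ g X, L (op g X) = (Φ g : Matrix (Fin n) (Fin n) F) *ᵥ L X := fun g X => by
    rw [hLeq, hLeq, hΦ, Matrix.mulVec_mulVec, Matrix.mul_assoc, ← Units.val_mul, inv_mul_cancel,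
      Units.val_one, Matrix.mul_one, ← Matrix.mulVec_mulVec, Matrix.submatrix_mulVec_equiv]
    congr 1
    funext i
    simp only [Function.comp_apply, Equiv.self_comp_symm, Function.comp_def, Equiv.apply_symm_apply]
    rfl
  have h := isMaximalIn_tensorSU hF g₁' g₂ h1 h12 hb (by omega) hex Φ L hbij hL hdet hB'
  rw [Cfsg.Geo.tensorProductSubgroup, Subgroup.map_map]
  exact h

end Cfsg.Agent.Lib.GeoTypesSU
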